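import Cfsg.Agent.Lib.ThP.Act
import Cfsg.Agent.Lib.ThP.Index
import Cfsg.Agent.Lib.ThP.BC
import Cfsg.Agent.Lib.ThP.Slp
import Cfsg.Agent.Lib.CosetEnum.BasePts

/-!
`P` has order 634023936 and acts faithfully and transitively on 819 points; the stabiliser of the point `0`
is `⟨a, c, d, e, s, t⟩`, of order 774144. Elements are decided by the images of five base points.
-/

set_option autoImplicit false
set_option maxRecDepth 20000

namespace Cfsg.Agent.Lib.ThP

open Cfsg.Agent.Lib.CosetEnum Cfsg.Agent.Lib.ExactCover

/-- The subgroup `C = ⟨a, c, d, e, s, t⟩`. -/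
noncomputable abbrev subC : Subgroup P := subOf letters pres Index.subWords

theorem card_subC_le : Nat.card subC ≠ 0 ∧ Nat.card subC ≤ 774144 := by
  have h : Index.subWords = ([0, 2, 3, 4, 5, 6] : List ℕ).map fun j => [2 * j] := rfl
  rw [subC, h, subOf_pos _ (by decide)]
  exact BC.bound

theorem index_subC : subC.index = 819 := Index.enum.index

theorem card_range_act : 634023936 ≤ Nat.card act.range :=
  Slp.size_eq ▸ card_range_ge act (letters.phi pres) (fun g hg i => act_phi g hg i) Slp.slp_ok _
    Slp.levels_ok

theorem card_P_ne_zero : Nat.card P ≠ 0 := by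
  rw [← subC.card_mul_index, index_subC]
  have := card_subC_le.1
  positivity

theorem card_P : Nat.card P = 634023936 := by
  haveI : Finite P := Nat.finite_of_card_ne_zero card_P_ne_zero
  have h1 : Nat.card P ≤ 634023936 := by
    rw [← subC.card_mul_index, index_subC]
    have := card_subC_le.2
    omega
  have h2 := Nat.card_le_card_of_surjective _ act.rangeRestrict_surjective
  have h3 := card_range_act
  omega

instance finite_P : Finite P := Nat.finite_of_card_ne_zero card_P_ne_zero

theorem card_subC : Nat.card subC = 774144 := by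
  have h := subC.card_mul_index
  rw [index_subC, card_P] at h
  omega

theorem act_injective : Function.Injective act := by
  have hbij : Function.Bijective act.rangeRestrict :=
    (Nat.bijective_iff_surjective_and_card _).2 ⟨act.rangeRestrict_surjective, by
      have h1 := Nat.card_le_card_of_surjective _ act.rangeRestrict_surjective
      have h2 := card_range_act
      have h3 := card_P
      omega⟩
  exact fun a b h => hbij.1 (Subtype.ext h)

theorem subC_fix_words : ∀ l ∈ Index.subWords, (∀ g ∈ l, g < 14) ∧ scan 14 table l 0 = 0 := by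
  decide +kernel

theorem mem_subC_iff (x : P) : x ∈ subC ↔ act x ⟨0, by omega⟩ = ⟨0, by omega⟩ := by
  refine (eq_stabilizer act (⟨0, by omega⟩ : Fin 819) ?_ act_transitive ?_ ?_).2 x
  · intro x hx
    induction hx using Subgroup.closure_induction with
    | mem x hx =>
      obtain ⟨l, hl, rfl⟩ := hx
      obtain ⟨hl', h0⟩ := subC_fix_words l hl
      have h : (act (val l))⁻¹ (⟨0, by omega⟩ : Fin 819) = ⟨0, by omega⟩ :=
        Fin.ext (by rw [act_word l hl']; exact h0)
      conv_lhs => rw [← h]
      simp
    | one => simp
    | mul a b _ _ ha hb => rw [map_mul, Equiv.Perm.mul_apply, hb, ha]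
    | inv a _ ha => rw [map_inv, Equiv.Perm.inv_def, Equiv.symm_apply_eq, ha]
  · rw [index_subC, Nat.card_fin]
  · rw [index_subC]; omega

theorem levels_tight : Tight act Slp.levels [] := by
  refine tight_of_levels act (slp_sound act _ (fun g hg i => act_phi g hg i) Slp.slp_ok) Slp.levels []
    Slp.levels_ok ?_
  have he : chainSize Slp.levels = 634023936 := Slp.size_eq
  rw [he, ← card_P]
  exact (Nat.card_le_card_of_injective
    (fun σ : fixList (N := 819) act [] => (⟨σ.1, σ.2.1⟩ : act.range))
    fun _ _ huv => Subtype.ext (congrArg (fun z : act.range => (z.1 : Equiv.Perm (Fin 819))) huv)).trans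
    (Nat.card_le_card_of_surjective _ act.rangeRestrict_surjective)

/-- Elements of `P` agreeing on the base points are equal. -/
theorem eq_of_base (x y : P) (h : ∀ b : Fin 819, b.1 ∈ Slp.base → act x b = act y b) : x = y := by
  apply act_injective
  have h1 : (act y)⁻¹ * act x = 1 := by
    refine Tight.eq_one act levels_tight _ ⟨mul_mem (inv_mem ⟨_, rfl⟩) ⟨_, rfl⟩, by simp⟩ ?_
    intro l hl b hb
    rw [Equiv.Perm.mul_apply, h b (hb ▸ Slp.levels_base ▸ List.mem_map.2 ⟨l, hl, rfl⟩)]
    simp
  exact (inv_mul_eq_one.1 h1).symm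

/-- The test on the base points for equality of two words. -/
noncomputable def wordEq (u v : List ℕ) : Bool :=
  Slp.base.all fun b => Nat.beq (scan 14 table u b) (scan 14 table v b)

theorem val_eq_of_base (u v : List ℕ) (hu : ∀ g ∈ u, g < 14) (hv : ∀ g ∈ v, g < 14)
    (h : ∀ b ∈ Slp.base, scan 14 table u b = scan 14 table v b) : val u = val v := by
  refine inv_injective (eq_of_base _ _ fun b hb => Fin.ext ?_)
  rw [map_inv, map_inv, act_word u hu, act_word v hv, h _ hb]

theorem wordEq_sound (u v : List ℕ) (hu : ∀ g ∈ u, g < 14) (hv : ∀ g ∈ v, g < 14)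
    (h : wordEq u v = true) : val u = val v := by
  refine val_eq_of_base u v hu hv fun b hb => ?_
  simpa using List.all_eq_true.1 h b hb

theorem val_mem_subC (l : List ℕ) (hl : ∀ g ∈ l, g < 14) (h : scan 14 table l 0 = 0) : val l ∈ subC := by
  rw [← inv_mem_iff (H := subC), mem_subC_iff]
  exact Fin.ext (by rw [map_inv, act_word l hl]; exact h)

end Cfsg.Agent.Lib.ThP
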