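import Cfsg.Agent.Lib.ThP.Order
import Cfsg.Agent.Lib.ThP.TransData

/-! A transversal of `C` in `P`: a word for each of the 819 points. -/

set_option autoImplicit false
set_option maxRecDepth 20000

namespace Cfsg.Agent.Lib.ThP

open Cfsg.Agent.Lib.CosetEnum

/-- Unpack base 16 digits behind a leading 1. -/
def unpackAux : ℕ → ℕ → List ℕ → List ℕ
  | 0, _, acc => acc
  | fuel + 1, n, acc => if n ≤ 1 then acc else unpackAux fuel (n / 16) (n % 16 :: acc)

/-- The word taking the point `0` to the point `i`. -/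
noncomputable def transWord (i : ℕ) : List ℕ := unpackAux 16 (getWord transPacked i) []

theorem trans_check : allBelow 819 (fun i =>
    (transWord i).all (fun g => Nat.blt g 14) && Nat.beq (scan 14 table (transWord i) 0) i) = true := by
  decide +kernel

theorem transWord_spec (i : ℕ) (hi : i < 819) :
    (∀ g ∈ transWord i, g < 14) ∧ scan 14 table (transWord i) 0 = i := by
  have h := allBelow_iff.1 trans_check i hi
  simp only [Bool.and_eq_true, List.all_eq_true, Nat.blt_eq, Nat.beq_eq] at h
  exact h

theorem exists_trans (x : P) : ∃ c ∈ subC, ∃ i < 819, x = c * val (transWord i) := by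
  let i : Fin 819 := (act x)⁻¹ ⟨0, by omega⟩
  obtain ⟨hw, hs⟩ := transWord_spec i.1 i.2
  have hi : (act (val (transWord i.1)))⁻¹ ⟨0, by omega⟩ = i := Fin.ext (by rw [act_word _ hw]; exact hs)
  refine ⟨x * (val (transWord i.1))⁻¹, ?_, i.1, i.2, by rw [inv_mul_cancel_right]⟩
  rw [mem_subC_iff, map_mul, map_inv, Equiv.Perm.mul_apply, hi]
  simp [i]

/-- A word lies in a coset of `C` according to the image of the point `0`. -/
theorem val_eq_mul_trans (l : List ℕ) (hl : ∀ g ∈ l, g < 14) :
    ∃ c ∈ subC, val l = c * val (transWord (scan 14 table l 0)) := by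
  let i : Fin 819 := (act (val l))⁻¹ ⟨0, by omega⟩
  have hi' : i.1 = scan 14 table l 0 := act_word l hl _
  obtain ⟨hw, hs⟩ := transWord_spec i.1 i.2
  have hi : (act (val (transWord i.1)))⁻¹ ⟨0, by omega⟩ = i := Fin.ext (by rw [act_word _ hw]; exact hs)
  refine ⟨val l * (val (transWord i.1))⁻¹, ?_, by rw [← hi', inv_mul_cancel_right]⟩
  rw [mem_subC_iff, map_mul, map_inv, Equiv.Perm.mul_apply, hi]
  simp [i]

end Cfsg.Agent.Lib.ThP
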