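import Cfsg.Agent.Lib.ThP.Pres
import Cfsg.Prelude.Def_Spor_Th

/-! The homomorphism from `P` to the presented Thompson group. -/

set_option autoImplicit false
set_option maxRecDepth 20000

namespace Cfsg.Agent.Lib.ThP

open Cfsg.Agent.Lib.CosetEnum Cfsg.Agent.Lib.ExactCover

/-- The relators of the presented Thompson group. -/
abbrev thRels : Set (FreeGroup Cfsg.Spor.Th.Gen) :=
  Cfsg.Spor.coxRelators Cfsg.Spor.Th.edges ∪ {r | r ∈ Cfsg.Spor.Th.extra}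

/-- The generators. -/
def gen7 : Fin 7 → Cfsg.Spor.Th.Gen :=
  ![.a, .b, .c, .d, .e, .s, .t]

theorem rels_mapped : ∀ l ∈ relWords,
    FreeGroup.mk ((l.map (stdSym 7)).map fun p => (gen7 p.1, p.2)) ∈ Cfsg.Spor.Th.extra := by
  decide +kernel

/-- The homomorphism to the presented Thompson group. -/
noncomputable def toTh : P →* Cfsg.Spor.Th :=
  PresentedGroup.toGroup (f := fun i => PresentedGroup.of (gen7 i)) (by
    rintro r hr
    obtain ⟨l, hl, rfl⟩ := List.mem_map.1 hr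
    have hfac : FreeGroup.lift (fun i => (PresentedGroup.of (gen7 i) : Cfsg.Spor.Th)) =
        (PresentedGroup.mk thRels).comp (FreeGroup.map gen7) :=
      FreeGroup.ext_hom _ _ fun i => by simp [PresentedGroup.of]
    rw [hfac, MonoidHom.comp_apply, FreeGroup.map.mk]
    exact PresentedGroup.one_of_mem (Set.mem_union_right _ (rels_mapped l hl)))

theorem toTh_of (i : Fin 7) : toTh (PresentedGroup.of i) = PresentedGroup.of (gen7 i) :=
  PresentedGroup.toGroup.of _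

theorem range_toTh : toTh.range = (Subgroup.closure ({Cfsg.Spor.Th.a, Cfsg.Spor.Th.b, Cfsg.Spor.Th.c,
    Cfsg.Spor.Th.d, Cfsg.Spor.Th.e, Cfsg.Spor.Th.s, Cfsg.Spor.Th.t} : Set (FreeGroup Cfsg.Spor.Th.Gen))).map
      (PresentedGroup.mk thRels) := by
  rw [MonoidHom.map_closure, MonoidHom.range_eq_map, ← PresentedGroup.closure_range_of pres,
    MonoidHom.map_closure]
  congr 1
  ext x
  constructor
  · rintro ⟨_, ⟨i, rfl⟩, rfl⟩
    refine ⟨FreeGroup.of (gen7 i), ?_, (toTh_of i).symm⟩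
    fin_cases i <;> simp [gen7, Cfsg.Spor.Th.a, Cfsg.Spor.Th.b, Cfsg.Spor.Th.c, Cfsg.Spor.Th.d,
      Cfsg.Spor.Th.e, Cfsg.Spor.Th.s, Cfsg.Spor.Th.t]
  · rintro ⟨w, hw, rfl⟩
    simp only [Set.mem_insert_iff, Set.mem_singleton_iff] at hw
    rcases hw with rfl | rfl | rfl | rfl | rfl | rfl | rfl
    · exact ⟨_, ⟨0, rfl⟩, toTh_of 0⟩
    · exact ⟨_, ⟨1, rfl⟩, toTh_of 1⟩
    · exact ⟨_, ⟨2, rfl⟩, toTh_of 2⟩
    · exact ⟨_, ⟨3, rfl⟩, toTh_of 3⟩
    · exact ⟨_, ⟨4, rfl⟩, toTh_of 4⟩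
    · exact ⟨_, ⟨5, rfl⟩, toTh_of 5⟩
    · exact ⟨_, ⟨6, rfl⟩, toTh_of 6⟩

end Cfsg.Agent.Lib.ThP
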