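import Cfsg.Agent.Lib.ThP.Pres
import Cfsg.Agent.Lib.CosetEnum.Chain

/-! Subgroups generated by some of the generators. -/

set_option autoImplicit false

namespace Cfsg.Agent.Lib.ThP

open Cfsg.Agent.Lib.CosetEnum

theorem val_flip {g : ℕ} (hg : g < 14) : letters.phi pres (invL letters.IV g) = (letters.phi pres g)⁻¹ :=
  (Letters.phi_inv rels_mem letters_ok (g := g) (show g ≤ letters.K from hg.le)).2

theorem iv_pair : ∀ j < 7, invL letters.IV (2 * j) = 2 * j + 1 := by decide +kernel

theorem subOf_pos (js : List ℕ) (hj : ∀ j ∈ js, j < 7) :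
    subOf letters pres (js.map fun j => [2 * j]) =
      subOf letters pres ((js.flatMap fun j => [2 * j, 2 * j + 1]).map fun g => [g]) := by
  apply le_antisymm
  · refine Subgroup.closure_mono ?_
    rintro x ⟨l, hl, rfl⟩
    obtain ⟨j, hjm, rfl⟩ := List.mem_map.1 hl
    exact ⟨[2 * j], List.mem_map.2 ⟨2 * j, List.mem_flatMap.2 ⟨j, hjm, by simp⟩, rfl⟩, rfl⟩
  · refine (Subgroup.closure_le _).2 ?_
    rintro x ⟨l, hl, rfl⟩
    obtain ⟨g, hg, rfl⟩ := List.mem_map.1 hl
    obtain ⟨j, hjm, hgj⟩ := List.mem_flatMap.1 hg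
    have h0 : val [2 * j] ∈ subOf letters pres (js.map fun j => [2 * j]) :=
      Subgroup.subset_closure ⟨_, List.mem_map.2 ⟨j, hjm, rfl⟩, rfl⟩
    simp only [List.mem_cons, List.not_mem_nil, or_false] at hgj
    rcases hgj with rfl | rfl
    · exact h0
    · have h := val_flip (g := 2 * j) (by have := hj j hjm; omega)
      rw [iv_pair j (hj j hjm)] at h
      simpa [val, h] using Subgroup.inv_mem _ h0

end Cfsg.Agent.Lib.ThP
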