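import Cfsg.Agent.Lib.ThP.Table
import Cfsg.Agent.Lib.ThP.Gen
import Cfsg.Agent.Lib.CosetEnum.Main

/-! The action of `P` on 819 points. -/

set_option autoImplicit false
set_option maxRecDepth 20000

namespace Cfsg.Agent.Lib.ThP

open Cfsg.Agent.Lib.CosetEnum Cfsg.Agent.Lib.ExactCover

/-- The action on the 819 points. -/
noncomputable def act : P →* Equiv.Perm (Fin 819) :=
  PresentedGroup.toGroup (f := table_ok.genPerm)
    (fun _ hr => table_ok.lift_rel letters_ok hr)

theorem act_phi : ∀ g < 14, ∀ i : Fin 819,
    ((act (letters.phi pres g))⁻¹ i).1 = get32 table (i.1 * 14 + g) := by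
  intro g hg i
  have hg' : g < letters.K := hg
  rw [Letters.phi_of_lt hg']
  have h : act (PresentedGroup.mk pres (FreeGroup.mk [letters.sym g])) =
      FreeGroup.lift table_ok.genPerm (FreeGroup.mk [letters.sym g]) := rfl
  rw [h, table_ok.lift_sym hg']
  rfl

theorem act_word (l : List ℕ) (hl : ∀ g ∈ l, g < 14) (i : Fin 819) :
    ((act (val l))⁻¹ i).1 = scan 14 table l i.1 := by
  induction l generalizing i with
  | nil => simp [val, scan]
  | cons g l ih =>
    rw [val, List.map_cons, List.prod_cons, map_mul, mul_inv_rev, Equiv.Perm.mul_apply,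
      ih (fun x hx => hl x (List.mem_cons_of_mem _ hx)), act_phi g (hl g List.mem_cons_self)]
    change scan 14 table l (get32 table (i.1 * 14 + g)) =
      force (get32 table (Nat.add (Nat.mul i.1 14) g)) (scan 14 table l)
    rw [force_eq]
    rfl

theorem act_transitive (i : Fin 819) : ∃ x, act x ⟨0, by omega⟩ = i :=
  transitive_of_reach act 14 (letters.phi pres) (by omega : 0 < 819) (fun g hg i => act_phi g hg i)
    reach_ok i

end Cfsg.Agent.Lib.ThP
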