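import Cfsg.Agent.Lib.CosetEnum.Word
import Cfsg.Agent.Lib.ExactCover.Std

/-!
The group presented on `a, b, c, d, e, s, t` by the relator groups (1), (2), (3) of the presented Thompson
group. Letters: `2 i` is the generator number `i` and `2 i + 1` its inverse.
-/

set_option autoImplicit false
set_option maxRecDepth 20000
set_option Elab.async false

namespace Cfsg.Agent.Lib.ThP

open Cfsg.Agent.Lib.CosetEnum Cfsg.Agent.Lib.ExactCover

/-- The relator words. -/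
def relWords : List (List ℕ) :=
  [[0, 0],
    [2, 2],
    [4, 4],
    [6, 6],
    [8, 8],
    [0, 2, 0, 2, 0, 2],
    [0, 8, 0, 8],
    [2, 4, 2, 4, 2, 4],
    [2, 6, 2, 6],
    [2, 8, 2, 8],
    [0, 7, 5, 7, 5, 7, 5, 7, 5],
    [4, 8, 4, 8],
    [6, 8, 6, 8, 6, 8],
    [2, 4, 6, 8, 2, 4, 6, 8, 2, 4, 6, 8, 2, 4, 6, 8, 2, 4, 6, 8, 2, 4, 6, 8, 2, 4, 6, 8, 2, 4, 6, 8],
    [10, 10, 10, 10, 10, 10, 10],
    [11, 1, 10, 0],
    [11, 3, 10, 2],
    [11, 5, 10, 4],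
    [10, 6, 10, 6],
    [9, 11, 8, 11, 11, 9, 10, 10, 10],
    [12, 12, 12],
    [13, 1, 12, 0],
    [13, 3, 12, 2],
    [13, 5, 12, 4],
    [13, 7, 12, 6],
    [13, 9, 12, 8],
    [13, 10, 12, 11, 11]]

/-- Letters and relator words. -/
noncomputable def letters : Letters (Fin 7) :=
  stdLetters 7 0x398d52d0931c8510c01
    [[],
    [0, 0],
    [2, 2],
    [4, 4],
    [6, 6],
    [8, 8],
    [0, 2, 0, 2, 0, 2],
    [0, 8, 0, 8],
    [2, 4, 2, 4, 2, 4],
    [2, 6, 2, 6],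
    [2, 8, 2, 8],
    [0, 7, 5, 7, 5, 7, 5, 7, 5],
    [4, 8, 4, 8],
    [6, 8, 6, 8, 6, 8],
    [2, 4, 6, 8, 2, 4, 6, 8, 2, 4, 6, 8, 2, 4, 6, 8, 2, 4, 6, 8, 2, 4, 6, 8, 2, 4, 6, 8, 2, 4, 6, 8],
    [10, 10, 10, 10, 10, 10, 10],
    [11, 1, 10, 0],
    [11, 3, 10, 2],
    [11, 5, 10, 4],
    [10, 6, 10, 6],
    [9, 11, 8, 11, 11, 9, 10, 10, 10],
    [12, 12, 12],
    [13, 1, 12, 0],
    [13, 3, 12, 2],
    [13, 5, 12, 4],
    [13, 7, 12, 6],
    [13, 9, 12, 8],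
    [13, 10, 12, 11, 11],
    [0, 1],
    [1, 0],
    [2, 3],
    [3, 2],
    [4, 5],
    [5, 4],
    [6, 7],
    [7, 6],
    [8, 9],
    [9, 8],
    [10, 11],
    [11, 10],
    [12, 13],
    [13, 12]] relWords

/-- The relators. -/
abbrev pres : Set (FreeGroup (Fin 7)) := relSet 7 relWords

/-- The group. -/
abbrev P : Type := PresentedGroup pres

theorem rels_mem : ∀ r ∈ letters.rels, r ∈ pres := fun _ h => h

theorem letters_col : ∀ a, letters.col a < letters.K ∧ letters.sym (letters.col a) = (a, true) := by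
  decide +kernel

theorem letters_ok : letters.OK := by
  refine ⟨by decide +kernel, by decide +kernel, ?_, ?_, ?_⟩ <;> decide +kernel

/-- The value of a word. -/
noncomputable abbrev val (l : List ℕ) : P := (l.map (letters.phi pres)).prod

end Cfsg.Agent.Lib.ThP
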