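import Cfsg.Agent.Lib.CosetEnum.Word

/-!
A checked deduction path on a sub-alphabet, leading from the base coset back to itself, spells a word of
the subgroup.
-/

set_option autoImplicit false

namespace Cfsg.Agent.Lib.ThP

open Cfsg.Agent.Lib.CosetEnum

variable {α : Type} [DecidableEq α] (L : Letters α) (S : Set (FreeGroup α))

theorem prod_mem_of_walk (hS : ∀ r ∈ L.rels, r ∈ S) (hok : L.OK)
    (hcol : ∀ a, L.col a < L.K ∧ L.sym (L.col a) = (a, true))
    (emb : List ℕ) (d : Data) (D M : ℕ)
    (hK : d.K = emb.length) (hK32 : d.K < 32) (hemb : ∀ g ∈ emb, g < L.K)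
    (hinv : invL d.IV d.K = d.K ∧
      ∀ g < d.K, invL d.IV g < d.K ∧ emb.getD (invL d.IV g) 0 = invL L.IV (emb.getD g 0))
    (RL HL : List (List ℕ)) (hRL : ∀ l ∈ RL, (∀ g ∈ l, g < d.K) ∧ embWord emb l ∈ L.RL)
    (hHL : ∀ l ∈ HL, ∀ g ∈ l, g < d.K) (hnR : d.nR = RL.length) (hnW : d.nW = RL.length + HL.length)
    (hW : ∀ i < d.nW, getWord d.W i = pack ((RL ++ HL).getD i []))
    (hgood : ∀ (φ : ℕ → PresentedGroup S) (H : Subgroup (PresentedGroup S)), Valid d φ H →
      ∀ i < M, Good d D φ H i)
    (wl : List ℕ) (hwl : ∀ g ∈ wl, g < d.K) (n path : ℕ)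
    (h : (walk d M n 0 1 path fun c a _ => Nat.beq c 0 && Nat.beq a (pack wl)) = true) :
    ((embWord emb wl).map (L.phi S)).prod ∈ subOf L S (HL.map (embWord emb)) := by
  let φ : ℕ → PresentedGroup S := fun g => if g = d.K then 1 else L.phi S (emb.getD g 0)
  have hlt : ∀ g < d.K, emb.getD g 0 < L.K := by
    intro g hg
    rw [List.getD_eq_getElem _ _ (by omega)]
    exact hemb _ (List.getElem_mem _)
  have hφ : ∀ g < d.K, φ g = L.phi S (emb.getD g 0) := fun g hg => if_neg (by omega)
  have hprod : ∀ l : List ℕ, (∀ g ∈ l, g < d.K) →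
      (l.map φ).prod = ((embWord emb l).map (L.phi S)).prod := by
    intro l hl
    rw [embWord, List.map_map]
    congr 1
    exact List.map_congr_left fun g hg => hφ g (hl g hg)
  set H := subOf L S (HL.map (embWord emb)) with hH
  have hV : Valid d φ H := by
    refine ⟨hK32, if_pos rfl, fun g hg => ?_, ?_, ?_⟩
    · rcases eq_or_lt_of_le hg with rfl | hg
      · rw [hinv.1]; exact ⟨le_rfl, by simp [φ]⟩
      · obtain ⟨h1, h2⟩ := hinv.2 g hg
        refine ⟨h1.le, ?_⟩
        rw [hφ _ h1, hφ _ hg, h2]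
        exact (Letters.phi_inv hS hok (hlt g hg).le).2
    · intro w hw
      rw [hnR] at hw
      rw [hW w (by omega), List.getD_append _ _ _ _ hw, List.getD_eq_getElem _ _ hw, ev_pack _ _
        (fun g hg => by have := (hRL _ (List.getElem_mem hw)).1 g hg; omega),
        hprod _ (hRL _ (List.getElem_mem hw)).1]
      exact Letters.prod_rel hS hok hcol (hRL _ (List.getElem_mem hw)).2
    · intro w hw
      rcases lt_or_ge w RL.length with h1 | h1
      · rw [hW w hw, List.getD_append _ _ _ _ h1, List.getD_eq_getElem _ _ h1, ev_pack _ _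
          (fun g hg => by have := (hRL _ (List.getElem_mem h1)).1 g hg; omega),
          hprod _ (hRL _ (List.getElem_mem h1)).1,
          Letters.prod_rel hS hok hcol (hRL _ (List.getElem_mem h1)).2]
        exact Subgroup.one_mem _
      · have h2 : w - RL.length < HL.length := by omega
        rw [hW w hw, List.getD_append_right _ _ _ _ h1, List.getD_eq_getElem _ _ h2, ev_pack _ _
          (fun g hg => by have := hHL _ (List.getElem_mem h2) g hg; omega),
          hprod _ (hHL _ (List.getElem_mem h2))]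
        exact Subgroup.subset_closure ⟨_, List.mem_map.2 ⟨_, List.getElem_mem h2, rfl⟩, rfl⟩
  obtain ⟨c, a, _, h', _, hm⟩ := walk_sound hV (hgood _ _ hV) n 0 1 path _ h 1 le_rfl (by
    rw [ev, if_pos le_rfl, rep_zero]; simp)
  simp only [Bool.and_eq_true, Nat.beq_eq] at h'
  obtain ⟨rfl, rfl⟩ := h'
  rw [rep_zero, ev_pack _ _ (fun g hg => by have := hwl g hg; omega), one_mul, inv_one, mul_one,
    hprod _ hwl] at hm
  exact hm

end Cfsg.Agent.Lib.ThP
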