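import Cfsg.Agent.Lib.ThP.Act
import Cfsg.Agent.Lib.ThP.XWalk
import Cfsg.Agent.Lib.ThP.SlpH
import Cfsg.Agent.Lib.ThP.BH

/-!
`(c d e s) ^ 9 = 1` in `P`: the word lies in `⟨a, b, c, d, e⟩`, on which the action is faithful, and it
acts trivially.
-/

set_option autoImplicit false
set_option maxRecDepth 20000

namespace Cfsg.Agent.Lib.ThP

open Cfsg.Agent.Lib.CosetEnum Cfsg.Agent.Lib.ExactCover

/-- The subgroup `⟨a, b, c, d, e⟩`. -/
noncomputable abbrev subH : Subgroup P := subOf letters pres (([0, 1, 2, 3, 4] : List ℕ).map fun j => [2 * j])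

theorem card_subH_le : Nat.card subH ≠ 0 ∧ Nat.card subH ≤ 12096 := by
  rw [subH, subOf_pos _ (by decide)]
  exact BH.bound

theorem phi_mem_subH {g : ℕ} (hg : g < 10) : letters.phi pres g ∈ subH := by
  rw [subH, subOf_pos _ (by decide)]
  exact Subgroup.subset_closure ⟨[g], List.mem_map.2 ⟨g, by revert g; decide, rfl⟩, by simp⟩

/-- The letters of `⟨a, b, c, d, e⟩` inside it. -/
noncomputable def phiH (g : ℕ) : subH := if h : g < 10 then ⟨_, phi_mem_subH h⟩ else 1

theorem tab_eq : allBelow 819 (fun i => allBelow 10 fun g =>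
    Nat.beq (get32 SlpH.tab (Nat.add (Nat.mul i 10) g)) (get32 table (Nat.add (Nat.mul i 14) g))) = true := by
  decide +kernel

theorem subH_range_ge : 12096 ≤ Nat.card (act.comp subH.subtype).range := by
  refine SlpH.size_eq ▸ card_range_ge (act.comp subH.subtype) phiH (K := 10) ?_ SlpH.slp_ok _ SlpH.levels_ok
  intro g hg i
  simp only [phiH, dif_pos hg, MonoidHom.comp_apply, Subgroup.subtype_apply]
  rw [act_phi g (by omega)]
  have h := allBelow_iff.1 (allBelow_iff.1 tab_eq i.1 i.2) g hg
  simp only [Nat.beq_eq] at h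
  exact h.symm

theorem subH_faithful : Function.Injective (act.comp subH.subtype) := by
  haveI : Finite subH := Nat.finite_of_card_ne_zero card_subH_le.1
  have hbij : Function.Bijective (act.comp subH.subtype).rangeRestrict :=
    (Nat.bijective_iff_surjective_and_card _).2 ⟨MonoidHom.rangeRestrict_surjective _, by
      have h1 := Nat.card_le_card_of_surjective _ (act.comp subH.subtype).rangeRestrict_surjective
      have h2 := subH_range_ge
      have h3 := card_subH_le.2
      omega⟩
  exact fun a b h => hbij.1 (Subtype.ext h)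

theorem xWord_fix : allBelow 819 (fun i => Nat.beq (scan 14 table xWord i) i) = true := by decide +kernel

theorem xWord_eq_one : val xWord = 1 := by
  have hx : act (val xWord) = 1 := by
    rw [← inv_eq_one]
    ext i
    rw [act_word _ (by decide +kernel)]
    simpa using (allBelow_iff.1 xWord_fix i.1 i.2)
  exact congrArg Subtype.val
    (subH_faithful (a₁ := ⟨val xWord, XWalk.mem⟩) (a₂ := 1) (by simpa using hx))

end Cfsg.Agent.Lib.ThP
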